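import Mathlib

/-!
# Homomorphisms out of a finitely presented module
-/

set_option linter.style.haveILetI false

universe u v

open scoped TensorProduct

namespace GrothLib.HomSupp20

section Local

variable {L : Type u} [CommRing L] [IsLocalRing L] {M : Type v} [AddCommGroup M] [Module L M]

/-- A minimal presentation has relations in the maximal ideal. -/
theorem exists_minimal_presentation [Module.FinitePresentation L M] [Nontrivial M] :
    ∃ (k : ℕ) (π : (Fin (k + 1) → L) →ₗ[L] M), Function.Surjective π ∧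
      ∀ x ∈ LinearMap.ker π, ∀ i, x i ∈ IsLocalRing.maximalIdeal L := by
  classical
  have hex : ∃ k, ∃ g : Fin k → M, Submodule.span L (Set.range g) = ⊤ := Module.Finite.exists_fin
  obtain ⟨g, hg⟩ := Nat.find_spec hex
  have hpos : Nat.find hex ≠ 0 := fun h0 => by
    haveI : IsEmpty (Fin (Nat.find hex)) := by rw [h0]; infer_instance
    rw [Set.range_eq_empty g, Submodule.span_empty] at hg
    exact bot_ne_top hg
  obtain ⟨k, hk⟩ := Nat.exists_eq_succ_of_ne_zero hpos
  let g' : Fin (k + 1) → M := g ∘ Fin.cast hk.symm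
  have hg' : Submodule.span L (Set.range g') = ⊤ := by
    rw [← hg]
    exact congrArg _ ((finCongr hk.symm).surjective.range_comp g)
  refine ⟨k, Fintype.linearCombination L g', ?_, fun x hx i => ?_⟩
  · rw [← LinearMap.range_eq_top, Fintype.range_linearCombination, hg']
  · by_contra hi
    rw [IsLocalRing.mem_maximalIdeal, mem_nonunits_iff, not_not] at hi
    obtain ⟨w, hw⟩ := hi
    refine Nat.find_min hex (m := k) (by omega) ⟨g' ∘ i.succAbove, ?_⟩
    refine top_unique (hg'.ge.trans (Submodule.span_le.2 ?_))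
    rintro _ ⟨j, rfl⟩
    rcases eq_or_ne j i with rfl | hj
    · rw [LinearMap.mem_ker, Fintype.linearCombination_apply, Fin.sum_univ_succAbove _ j] at hx
      have : g' j = (↑w⁻¹ : L) • -(∑ l, x (j.succAbove l) • g' (j.succAbove l)) := by
        rw [← eq_neg_of_add_eq_zero_left hx, ← hw, smul_smul, w.inv_mul, one_smul]
      rw [this]
      exact Submodule.smul_mem _ _ (neg_mem (sum_mem fun l _ =>
        Submodule.smul_mem _ _ (Submodule.subset_span ⟨l, rfl⟩)))
    · obtain ⟨l, rfl⟩ := Fin.exists_succAbove_eq hj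
      exact Submodule.subset_span ⟨l, rfl⟩

/-- A nonzero map out of a finitely presented module to a module with a nil-annihilated element. -/
theorem exists_linearMap_ne_zero [Module.FinitePresentation L M] [Nontrivial M]
    {N : Type v} [AddCommGroup N] [Module L N] (y : N) (hy : y ≠ 0)
    (hrad : IsLocalRing.maximalIdeal L ≤ Ideal.radical (LinearMap.ker (LinearMap.toSpanSingleton L N y))) :
    ∃ f : M →ₗ[L] N, f ≠ 0 := by
  classical
  obtain ⟨k, π, hπ, hker⟩ := exists_minimal_presentation (L := L) (M := M)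
  obtain ⟨S, hS⟩ := Module.FinitePresentation.fg_ker π hπ
  let I : Ideal L := Ideal.span (⋃ i : Fin (k + 1), (fun x : Fin (k + 1) → L => x i) '' (S : Set _))
  have hIfg : I.FG := Submodule.fg_span (Set.finite_iUnion fun i => S.finite_toSet.image _)
  have hIm : I ≤ IsLocalRing.maximalIdeal L := by
    refine Ideal.span_le.2 ?_
    rintro _ h
    obtain ⟨i, x, hx, rfl⟩ := Set.mem_iUnion.1 h
    exact hker x (hS ▸ Submodule.subset_span hx) i
  obtain ⟨n₀, hn₀⟩ := Ideal.exists_pow_le_of_le_radical_of_fg (hIm.trans hrad) hIfg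
  have hex : ∃ n, I ^ n ≤ LinearMap.ker (LinearMap.toSpanSingleton L N y) := ⟨n₀, hn₀⟩
  have hn : Nat.find hex ≠ 0 := fun h0 => hy (by
    have := Nat.find_spec hex
    rw [h0, pow_zero, Ideal.one_eq_top] at this
    simpa using this (Submodule.mem_top : (1 : L) ∈ ⊤))
  obtain ⟨n, hn⟩ := Nat.exists_eq_succ_of_ne_zero hn
  obtain ⟨z, hz, hz'⟩ := SetLike.not_le_iff_exists.1 (Nat.find_min hex (m := n) (by omega))
  let φ : (Fin (k + 1) → L) →ₗ[L] N :=
    (LinearMap.toSpanSingleton L N (z • y)).comp (LinearMap.proj 0)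
  have hφ : LinearMap.ker π ≤ LinearMap.ker φ := by
    rw [← hS, Submodule.span_le]
    intro x hx
    have hx0 : x 0 ∈ I := Ideal.subset_span (Set.mem_iUnion.2 ⟨0, Set.mem_image_of_mem _ hx⟩)
    have := Nat.find_spec hex (show z * x 0 ∈ I ^ Nat.find hex by
      rw [hn, pow_succ]; exact Ideal.mul_mem_mul hz hx0)
    rw [LinearMap.mem_ker, LinearMap.toSpanSingleton_apply] at this
    simpa [φ, smul_smul, mul_comm] using this
  let f : M →ₗ[L] N := (Submodule.liftQ _ φ hφ).comp (π.quotKerEquivOfSurjective hπ).symm.toLinearMap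
  refine ⟨f, fun h => hz' ?_⟩
  have h1 : f (π (Pi.single 0 1)) = z • y := by
    simp only [f, LinearMap.comp_apply, LinearEquiv.coe_coe,
      LinearMap.quotKerEquivOfSurjective_symm_apply, Submodule.liftQ_apply]
    simp [φ]
  rw [LinearMap.mem_ker, LinearMap.toSpanSingleton_apply, ← h1, h, LinearMap.zero_apply]

end Local

variable (A : Type u) [CommRing A] (M : Type v) [AddCommGroup M] [Module A M]
  [Module.FinitePresentation A M] (N : Type v) [AddCommGroup N] [Module A N] [Nontrivial N]

theorem nontrivial_hom (h : Module.support A N ⊆ Module.support A M) :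
    Nontrivial (M →ₗ[A] N) := by
  obtain ⟨n, hn⟩ := exists_ne (0 : N)
  let J : Ideal A := LinearMap.ker (LinearMap.toSpanSingleton A N n)
  have hJ : J ≠ ⊤ := fun h => hn (by
    simpa [J] using (h ▸ Submodule.mem_top : (1 : A) ∈ J))
  obtain ⟨p, hp⟩ := Ideal.nonempty_minimalPrimes hJ
  haveI : p.IsPrime := hp.1.1
  let L := Localization.AtPrime p
  let S := p.primeCompl
  let g : N →ₗ[A] LocalizedModule S N := LocalizedModule.mkLinearMap S N
  have hy : g n ≠ 0 := fun h0 => by
    obtain ⟨c, hc⟩ := (IsLocalizedModule.eq_zero_iff S g).1 h0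
    exact c.2 (hp.1.2 (show (c : A) ∈ J by simpa [J, Submonoid.smul_def] using hc))
  have hpN : (⟨p, inferInstance⟩ : PrimeSpectrum A) ∈ Module.support A N :=
    nontrivial_of_ne _ _ hy
  haveI : Nontrivial (LocalizedModule S M) := h hpN
  have hrad : IsLocalRing.maximalIdeal L ≤
      Ideal.radical (LinearMap.ker (LinearMap.toSpanSingleton L (LocalizedModule S N) (g n))) := by
    rw [Ideal.radical_eq_sInf]
    refine le_sInf fun q ⟨hq, hqp⟩ => ?_
    haveI : q.IsPrime := hqp
    have hle : q.comap (algebraMap A L) ≤ p := fun a ha => by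
      by_contra hap
      exact hqp.ne_top (q.eq_top_of_isUnit_mem ha (IsLocalization.map_units L (⟨a, hap⟩ : p.primeCompl)))
    have hJq : J ≤ q.comap (algebraMap A L) := fun a ha => hq (by
      rw [LinearMap.mem_ker, LinearMap.toSpanSingleton_apply, algebraMap_smul, ← map_smul,
        show a • n = 0 by simpa [J] using ha, map_zero])
    have heq : q.comap (algebraMap A L) = p := le_antisymm hle (hp.2 ⟨inferInstance, hJq⟩ hle)
    rw [← Localization.AtPrime.map_eq_maximalIdeal]
    exact Ideal.map_le_iff_le_comap.2 heq.ge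
  obtain ⟨f, hf⟩ := exists_linearMap_ne_zero (L := L) (M := LocalizedModule S M) (g n) hy hrad
  obtain ⟨f', s, hs⟩ := Module.FinitePresentation.exists_lift_of_isLocalizedModule S g
    ((f.restrictScalars A).comp (LocalizedModule.mkLinearMap S M))
  refine nontrivial_of_ne f' 0 fun h0 => hf ?_
  refine LinearMap.restrictScalars_injective A (IsLocalizedModule.ext S
    (LocalizedModule.mkLinearMap S M) (IsLocalizedModule.map_units g) ?_)
  rw [h0, LinearMap.comp_zero] at hs
  ext x
  have h1 := LinearMap.congr_fun hs x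
  simp only [LinearMap.zero_apply, LinearMap.smul_apply, LinearMap.comp_apply,
    LinearMap.restrictScalars_apply, Submonoid.smul_def] at h1
  have h2 := ((Module.End.isUnit_iff _).1 (IsLocalizedModule.map_units g s)).1
  simpa using h2 (by simpa [Module.algebraMap_end_apply] using h1.symm :
    algebraMap A (Module.End A (LocalizedModule S N)) (s : A) _ =
      algebraMap A (Module.End A (LocalizedModule S N)) (s : A) 0)

end GrothLib.HomSupp20
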